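import Mathlib
import Groth.Prelude.Def_FlatCA

/-!
# Flatness at a point through elements killed outside the point
-/

set_option autoImplicit false
set_option linter.style.haveILetI false
universe u

open TensorProduct

namespace GrothLib.FlatAbove

variable {A B M : Type u} [CommRing A] [CommRing B] [Algebra A B] [AddCommGroup M] [Module B M] [Module A M]
  [IsScalarTower A B M]

/-- Flatness at `q` says the kernels of tensored injections are killed outside `q`. -/
theorem flatAt_iff_killed (q : Ideal B) [q.IsPrime] :
    FlatCA.FlatAt A q M ↔ ∀ (X Y : Type u) [AddCommGroup X] [AddCommGroup Y] [Module A X] [Module A Y]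
      (f : X →ₗ[A] Y), Function.Injective f → ∀ z : M ⊗[A] X, f.lTensor M z = 0 → ∃ s : B, s ∉ q ∧ s • z = 0 := by
  let l : M →ₗ[B] LocalizedModule q.primeCompl M := LocalizedModule.mkLinearMap q.primeCompl M
  have hnat : ∀ {X Y : Type u} [AddCommGroup X] [AddCommGroup Y] [Module A X] [Module A Y] (f : X →ₗ[A] Y) (z : M ⊗[A] X),
      AlgebraTensorModule.rTensor A Y l (f.lTensor M z) = f.lTensor _ (AlgebraTensorModule.rTensor A X l z) := fun f z => by
    induction z using TensorProduct.induction_on with
    | zero => simp only [map_zero]
    | tmul x y => rfl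
    | add a b ha hb => simp only [map_add, ha, hb]
  constructor
  · intro (h : Module.Flat A (LocalizedModule q.primeCompl M)) X Y _ _ _ _ f hf z hz
    have h0 : AlgebraTensorModule.rTensor A X l z = 0 :=
      Module.Flat.lTensor_preserves_injective_linearMap f hf (by rw [← hnat, hz, map_zero, map_zero])
    obtain ⟨s, hs⟩ := (IsLocalizedModule.eq_zero_iff q.primeCompl (AlgebraTensorModule.rTensor A X l)).1 h0
    exact ⟨s, s.2, hs⟩
  · intro h
    show Module.Flat A (LocalizedModule q.primeCompl M)
    rw [Module.Flat.iff_lTensor_preserves_injective_linearMapₛ]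
    intro X Y _ _ _ _ f hf
    letI : AddCommGroup X := Module.addCommMonoidToAddCommGroup A
    letI : AddCommGroup Y := Module.addCommMonoidToAddCommGroup A
    have key : ∀ w : LocalizedModule q.primeCompl M ⊗[A] X, f.lTensor _ w = 0 → w = 0 := fun w hw => by
      obtain ⟨⟨z, s⟩, hz⟩ := IsLocalizedModule.surj q.primeCompl (AlgebraTensorModule.rTensor A X l) w
      have h1 : AlgebraTensorModule.rTensor A Y l (f.lTensor M z) = 0 := by
        rw [hnat, show AlgebraTensorModule.rTensor A X l z = (s : B) • w from hz.symm]
        show (AlgebraTensorModule.lTensor B _ f) ((s : B) • w) = 0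
        rw [map_smul]
        exact (congrArg ((s : B) • ·) hw).trans (smul_zero _)
      obtain ⟨t, ht⟩ := (IsLocalizedModule.eq_zero_iff q.primeCompl (AlgebraTensorModule.rTensor A Y l)).1 h1
      obtain ⟨t', ht', htz⟩ := h X Y f hf ((t : B) • z) (by
        show (AlgebraTensorModule.lTensor B M f) ((t : B) • z) = 0
        rw [map_smul]; exact ht)
      have h2 : (t' * t * (s : B)) • w = 0 := by
        rw [mul_smul, show (s : B) • w = AlgebraTensorModule.rTensor A X l z from hz, ← map_smul, mul_smul, htz, map_zero]
      exact ((Module.End.isUnit_iff _).1 (IsLocalizedModule.map_units (AlgebraTensorModule.rTensor A X l)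
        (⟨t', ht'⟩ * t * s : q.primeCompl))).injective (h2.trans (map_zero _).symm)
    exact (injective_iff_map_eq_zero _).2 key

/-- Flatness at a point is invariant under isomorphism. -/
theorem flatAt_congr {N : Type u} [AddCommGroup N] [Module B N] [Module A N] [IsScalarTower A B N] (e : M ≃ₗ[B] N)
    (q : Ideal B) [q.IsPrime] : FlatCA.FlatAt A q M → FlatCA.FlatAt A q N := fun h => by
  haveI : IsLocalizedModule q.primeCompl ((LocalizedModule.mkLinearMap q.primeCompl N).comp e.toLinearMap) :=
    IsLocalizedModule.of_linearEquiv_right q.primeCompl _ _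
  haveI : Module.Flat A (LocalizedModule q.primeCompl M) := h
  exact Module.Flat.of_linearEquiv
    ((IsLocalizedModule.linearEquiv q.primeCompl (LocalizedModule.mkLinearMap q.primeCompl M)
      ((LocalizedModule.mkLinearMap q.primeCompl N).comp e.toLinearMap)).restrictScalars A).symm

end GrothLib.FlatAbove
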