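import Mathlib
import Groth.Prelude.Def_FlatCA
import Groth.Agent.Lib.FlatDesc.Algebra

/-!
# Flatness at points above the closed point along base changes
-/

set_option autoImplicit false
set_option linter.style.haveILetI false
universe u

open TensorProduct IsLocalRing

namespace GrothLib.FlatAbove

/-- Flatness over a base at a point is insensitive to a flat base change. -/
theorem flatAt_iff {A B C M N : Type u} [CommRing A] [CommRing B] [CommRing C] [Algebra A B] [Algebra B C]
    [Algebra A C] [IsScalarTower A B C] [Module.Flat B C] [AddCommGroup M] [Module B M] [Module A M]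
    [IsScalarTower A B M] [AddCommGroup N] [Module C N] [Module B N] [IsScalarTower B C N] [Module A N]
    [IsScalarTower A C N] (j : M →ₗ[B] N) (hj : IsBaseChange C j) (q' : Ideal C) [q'.IsPrime] :
    FlatCA.FlatAt A (q'.comap (algebraMap B C)) M ↔ FlatCA.FlatAt A q' N := by
  let q := q'.comap (algebraMap B C)
  let Bq := Localization.AtPrime q
  let Cq := Localization.AtPrime q'
  let Mq := LocalizedModule q.primeCompl M
  let Nq := LocalizedModule q'.primeCompl N
  letI : Algebra Bq Cq := (Localization.localRingHom q q' (algebraMap B C) rfl).toAlgebra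
  haveI : IsScalarTower B Bq Cq := IsScalarTower.of_algebraMap_eq fun b => by
    rw [IsScalarTower.algebraMap_apply B C Cq]
    exact (Localization.localRingHom_to_map q q' (algebraMap B C) rfl b).symm
  haveI : IsLocalHom (algebraMap Bq Cq) := Localization.isLocalHom_localRingHom q q' (algebraMap B C) rfl
  haveI : Module.Flat B Cq := Module.Flat.trans B C Cq
  haveI : Module.Flat Bq Cq := (Module.flat_iff_of_isLocalization Bq q.primeCompl Cq).2 inferInstance
  haveI : Module.FaithfullyFlat Bq Cq := Module.FaithfullyFlat.of_flat_of_isLocalHom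
  letI : Module Bq Nq := Module.compHom Nq (algebraMap Bq Cq)
  haveI : IsScalarTower Bq Cq Nq := IsScalarTower.of_algebraMap_smul fun a x => rfl
  haveI : IsScalarTower B Cq Nq := IsScalarTower.of_algebraMap_smul fun b x => by
    rw [IsScalarTower.algebraMap_apply B C Cq, algebraMap_smul, algebraMap_smul]
  haveI : IsScalarTower B Bq Nq := IsScalarTower.of_algebraMap_smul fun b x => by
    show algebraMap Bq Cq (algebraMap B Bq b) • x = b • x
    rw [← IsScalarTower.algebraMap_apply, algebraMap_smul]
  haveI : IsScalarTower A B N := IsScalarTower.of_algebraMap_smul fun a x => by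
    rw [← algebraMap_smul C (algebraMap A B a) x, ← IsScalarTower.algebraMap_apply, algebraMap_smul]
  haveI : IsScalarTower A B Cq := inferInstance
  haveI : IsScalarTower A Bq Nq := IsScalarTower.of_algebraMap_smul fun a x => by
    rw [IsScalarTower.algebraMap_apply A B Bq, algebraMap_smul, algebraMap_smul]
  have hM : IsBaseChange Bq (LocalizedModule.mkLinearMap q.primeCompl M) :=
    (isLocalizedModule_iff_isBaseChange q.primeCompl Bq _).1 inferInstance
  have hN : IsBaseChange Cq (LocalizedModule.mkLinearMap q'.primeCompl N) :=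
    (isLocalizedModule_iff_isBaseChange q'.primeCompl Cq _).1 inferInstance
  have hc : IsBaseChange Cq (((LocalizedModule.mkLinearMap q'.primeCompl N).restrictScalars B).comp j) := hj.comp hN
  let g : M →ₗ[B] Nq := ((LocalizedModule.mkLinearMap q'.primeCompl N).restrictScalars B).comp j
  let h : Mq →ₗ[Bq] Nq := hM.lift g
  have hh : IsBaseChange Cq h := IsBaseChange.of_comp hM (h := h) (by rw [hM.lift_comp]; exact hc)
  let e : Cq ⊗[Bq] Mq ≃ₗ[A] Nq := hh.equiv.restrictScalars A
  constructor
  · intro (hf : Module.Flat A Mq)
    haveI : Module.Flat A (Cq ⊗[Bq] Mq) := GrothLib.FlatDesc.flat_tensor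
    exact Module.Flat.of_linearEquiv e.symm
  · intro (hf : Module.Flat A Nq)
    haveI : Module.Flat A (Cq ⊗[Bq] Mq) := Module.Flat.of_linearEquiv e
    exact GrothLib.FlatDesc.flat_of_flat_tensor (B := Bq) (S := Cq)

/-- A prime of the base change above a given prime and the closed point. -/
theorem exists_prime_over {B B' C C' : Type u} [CommRing B] [IsLocalRing B] [CommRing B'] [CommRing C] [IsLocalRing C]
    [CommRing C'] [Algebra B B'] [Algebra B C] [Algebra B' C'] [Algebra C C'] [Algebra B C'] [IsScalarTower B B' C']
    [IsScalarTower B C C'] [IsLocalHom (algebraMap B C)] [Algebra.IsPushout B B' C C'] (q : Ideal B') [q.IsPrime]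
    (hq : (maximalIdeal B).map (algebraMap B B') ≤ q) :
    ∃ q' : Ideal C', q'.IsPrime ∧ (maximalIdeal C).map (algebraMap C C') ≤ q' ∧ q'.comap (algebraMap B' C') = q := by
  let k := ResidueField B
  let K := q.ResidueField
  let L := ResidueField C
  let iK : k →+* K := Ideal.Quotient.lift (maximalIdeal B) ((algebraMap B' K).comp (algebraMap B B')) fun x hx =>
    Ideal.algebraMap_residueField_eq_zero.2 (hq (Ideal.mem_map_of_mem _ hx))
  letI : Algebra k K := iK.toAlgebra
  let T := K ⊗[k] L
  haveI : Nontrivial T := Algebra.TensorProduct.nontrivial_of_algebraMap_injective_of_isDomain k K L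
    (algebraMap k K).injective (algebraMap k L).injective
  obtain ⟨P, hP⟩ := Ideal.exists_maximal T
  haveI := hP
  letI : Algebra B T := ((algebraMap k T).comp (residue B)).toAlgebra
  let f : B' →ₐ[B] T :=
    { (Algebra.TensorProduct.includeLeftRingHom : K →+* T).comp (algebraMap B' K) with
      commutes' := fun b => rfl }
  let g : C →ₐ[B] T :=
    { ((Algebra.TensorProduct.includeRight : L →ₐ[k] T).toRingHom).comp (residue C) with
      commutes' := fun b => by
        show (1 : K) ⊗ₜ[k] residue C (algebraMap B C b) = algebraMap k T (residue B b)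
        exact ((Algebra.TensorProduct.includeRight : L →ₐ[k] T).commutes (residue B b)) }
  let ψ : C' →ₐ[B] T := Algebra.pushoutDesc C' f g fun _ _ => mul_comm _ _
  refine ⟨P.comap ψ.toRingHom, Ideal.IsPrime.comap _, ?_, ?_⟩
  · rw [Ideal.map_le_iff_le_comap]
    intro x hx
    show ψ (algebraMap C C' x) ∈ P
    rw [Algebra.pushoutDesc_right]
    show (1 : K) ⊗ₜ[k] residue C x ∈ P
    rw [(residue_eq_zero_iff x).2 hx, tmul_zero]
    exact zero_mem _
  · ext x
    show ψ (algebraMap B' C' x) ∈ P ↔ x ∈ q
    rw [Algebra.pushoutDesc_left, ← Ideal.algebraMap_residueField_eq_zero (I := q)]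
    show algebraMap B' K x ∈ P.comap (Algebra.TensorProduct.includeLeftRingHom : K →+* T) ↔ _
    rw [Ideal.eq_bot_of_prime (P.comap (Algebra.TensorProduct.includeLeftRingHom : K →+* T))]
    exact Ideal.mem_bot

end GrothLib.FlatAbove
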